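import Mathlib.RingTheory.Etale.Descent
import Mathlib.RingTheory.Flat.Basic
import Mathlib.Algebra.Module.CharacterModule
import Mathlib.LinearAlgebra.TensorProduct.RightExactness

/-!
# Descent along universally injective ring maps
-/

universe u

open TensorProduct CharacterModule

namespace Groth.Pi1UnivInj

variable {R S : Type u} [CommRing R] [CommRing S] [Algebra R S]

/-- Pointed form of universal injectivity: `M → S ⊗ M` is injective for every module. -/
theorem mk_one_injective
    (h : ∀ (P : Type u) [AddCommGroup P] [Module R P],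
      Function.Injective (LinearMap.lTensor P (Algebra.linearMap R S)))
    (M : Type u) [AddCommGroup M] [Module R M] :
    Function.Injective (fun m : M => (1 : S) ⊗ₜ[R] m) := by
  intro a b hab
  have h2 : a ⊗ₜ[R] (1 : S) = b ⊗ₜ[R] (1 : S) := by
    simpa using congrArg (TensorProduct.comm R S M) hab
  have h3 : a ⊗ₜ[R] (1 : R) = b ⊗ₜ[R] (1 : R) := h M (by simpa using h2)
  simpa using congrArg (TensorProduct.rid R M) h3

variable (hS : ∀ (M : Type u) [AddCommGroup M] [Module R M],
  Function.Injective (fun m : M => (1 : S) ⊗ₜ[R] m))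

include hS

theorem injective_of_lTensor_injective {M N : Type u} [AddCommGroup M] [Module R M]
    [AddCommGroup N] [Module R N] (f : M →ₗ[R] N) (hf : Function.Injective (f.lTensor S)) :
    Function.Injective f := by
  intro a b hab
  apply hS M
  apply hf
  simp [hab]

theorem subsingleton_of_subsingleton_tensor (M : Type u) [AddCommGroup M] [Module R M]
    [Subsingleton (S ⊗[R] M)] : Subsingleton M :=
  (hS M).subsingleton

theorem surjective_of_lTensor_surjective {M N : Type u} [AddCommGroup M] [Module R M]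
    [AddCommGroup N] [Module R N] (f : M →ₗ[R] N) (hf : Function.Surjective (f.lTensor S)) :
    Function.Surjective f := by
  have h0 : (LinearMap.range f).mkQ.lTensor S = 0 := by
    refine LinearMap.ext fun z => ?_
    obtain ⟨y, rfl⟩ := hf z
    rw [← LinearMap.comp_apply, ← LinearMap.lTensor_comp, LinearMap.range_mkQ_comp]
    simp
  intro n
  have h1 : (1 : S) ⊗ₜ[R] (LinearMap.range f).mkQ n = 0 := by
    have := LinearMap.congr_fun h0 ((1 : S) ⊗ₜ[R] n)
    simpa using this
  have h2 : (LinearMap.range f).mkQ n = 0 := hS _ (by simpa using h1)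
  simpa using h2

theorem finite_of_finite_tensor (M : Type u) [AddCommGroup M] [Module R M]
    [Module.Finite S (S ⊗[R] M)] : Module.Finite R M := by
  obtain ⟨n, s, hs⟩ := Module.Finite.exists_fin (R := S) (M := S ⊗[R] M)
  choose k t m h using fun i : Fin n ↦ TensorProduct.exists_sum_tmul_eq (s i)
  let f₀ : ((Σ i, Fin (k i)) → R) →ₗ[R] M := (Pi.basisFun R _).constr R fun ⟨i, j⟩ ↦ m i j
  refine Module.Finite.of_surjective f₀ (surjective_of_lTensor_surjective hS f₀ ?_)
  have : Function.Surjective (AlgebraTensorModule.lTensor S S f₀) := by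
    rw [← LinearMap.range_eq_top, eq_top_iff, ← hs, Submodule.span_le, Set.range_subset_iff]
    intro i
    use ∑ (j : Fin (k i)), t i j ⊗ₜ Pi.basisFun R _ ⟨i, j⟩
    simp [f₀, -Pi.basisFun_equivFun, -Pi.basisFun_apply, h i]
  exact this

theorem finitePresentation_of_finitePresentation_tensor (M : Type u) [AddCommGroup M] [Module R M]
    [Module.FinitePresentation S (S ⊗[R] M)] : Module.FinitePresentation R M := by
  have : Module.Finite R M := finite_of_finite_tensor hS M
  obtain ⟨n, f, hf⟩ := Module.Finite.exists_fin' R M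
  refine Module.finitePresentation_of_surjective f hf ?_
  classical
  let fS : S ⊗[R] (Fin n → R) →ₗ[S] S ⊗[R] M := AlgebraTensorModule.lTensor S S f
  have hfS : Function.Surjective fS := LinearMap.lTensor_surjective S hf
  have hfg : (LinearMap.ker fS).FG := Module.FinitePresentation.fg_ker fS hfS
  have hker : LinearMap.ker fS ≤
      Submodule.span S ((fun x : Fin n → R => (1 : S) ⊗ₜ[R] x) '' (LinearMap.ker f : Set _)) := by
    intro z hz
    obtain ⟨w, rfl⟩ := (lTensor_exact S (LinearMap.exact_subtype_ker_map f) hf z).mp hz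
    clear hz
    induction w with
    | zero => simp
    | add _ _ a b => rw [map_add]; exact Submodule.add_mem _ a b
    | tmul s x =>
      rw [LinearMap.lTensor_tmul, show s ⊗ₜ[R] (LinearMap.ker f).subtype x =
        s • ((1 : S) ⊗ₜ[R] (LinearMap.ker f).subtype x) by rw [TensorProduct.smul_tmul', smul_eq_mul, mul_one]]
      exact Submodule.smul_mem _ _ (Submodule.subset_span ⟨_, x.2, rfl⟩)
  obtain ⟨T, hT, hTspan⟩ : ∃ T : Finset (Fin n → R), (T : Set (Fin n → R)) ⊆ (LinearMap.ker f : Set (Fin n → R)) ∧
      LinearMap.ker fS ≤ Submodule.span S ((fun x : Fin n → R => (1 : S) ⊗ₜ[R] x) '' (T : Set (Fin n → R))) := by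
    obtain ⟨G, hG⟩ := hfg
    have hsub : (G : Set (S ⊗[R] (Fin n → R))) ⊆
        Submodule.span S ((fun x : Fin n → R => (1 : S) ⊗ₜ[R] x) '' (LinearMap.ker f : Set _)) :=
      fun z hz => hker (hG ▸ Submodule.subset_span hz)
    obtain ⟨T', hT', hT''⟩ := Submodule.subset_span_finite_of_subset_span hsub
    obtain ⟨T, hT, rfl⟩ := Finset.subset_set_image_iff.mp hT'
    refine ⟨T, hT, ?_⟩
    rw [← hG, Submodule.span_le]
    simpa using hT''
  refine ⟨T, le_antisymm (Submodule.span_le.mpr hT) fun x hx => ?_⟩
  let K0 := Submodule.span R (T : Set (Fin n → R))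
  have h1 : (1 : S) ⊗ₜ[R] K0.mkQ x = 0 := by
    have hz : (1 : S) ⊗ₜ[R] x ∈ LinearMap.ker fS := by
      simp [fS, LinearMap.mem_ker.mp hx]
    have h0 : Submodule.span S ((fun x : Fin n → R => (1 : S) ⊗ₜ[R] x) '' (T : Set (Fin n → R))) ≤
        LinearMap.ker (AlgebraTensorModule.lTensor S S K0.mkQ) := by
      rw [Submodule.span_le]
      rintro _ ⟨y, hy, rfl⟩
      have hy0 : K0.mkQ y = 0 := (Submodule.Quotient.mk_eq_zero _).mpr (Submodule.subset_span hy)
      simp [LinearMap.mem_ker, -Submodule.mkQ_apply, hy0]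
    have := h0 (hTspan hz)
    simpa using this
  exact (Submodule.Quotient.mk_eq_zero _).mp (hS _ (by simpa using h1))

theorem finiteType_of_finiteType_tensor (A : Type u) [CommRing A] [Algebra R A]
    [Algebra.FiniteType S (S ⊗[R] A)] : Algebra.FiniteType R A := by
  obtain ⟨s, hs⟩ := Algebra.FiniteType.out (R := S) (A := S ⊗[R] A)
  have (x : s) := TensorProduct.exists_sum_tmul_eq x.1
  choose k t m h using this
  let f : MvPolynomial (Σ x : s, Fin (k x)) R →ₐ[R] A := MvPolynomial.aeval (fun ⟨x, i⟩ ↦ m x i)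
  refine Algebra.FiniteType.of_surjective f (surjective_of_lTensor_surjective hS f.toLinearMap ?_)
  have hf : Function.Surjective (Algebra.TensorProduct.map (.id S S) f) := by
    rw [← AlgHom.range_eq_top, _root_.eq_top_iff, ← hs, Algebra.adjoin_le_iff]
    intro x hx
    let i : s := ⟨x, hx⟩
    use ∑ (j : Fin (k i)), t i j ⊗ₜ MvPolynomial.X ⟨i, j⟩
    simp [f, ← h, i]
  exact hf

theorem algFinitePresentation_of_tensor (A : Type u) [CommRing A] [Algebra R A]
    [Algebra.FinitePresentation S (S ⊗[R] A)] : Algebra.FinitePresentation R A := by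
  classical
  have : Algebra.FiniteType R A := finiteType_of_finiteType_tensor hS A
  rw [Algebra.FiniteType.iff_quotient_mvPolynomial''] at this
  obtain ⟨n, f, hf⟩ := this
  refine Algebra.FinitePresentation.of_surjective hf ?_
  let P := MvPolynomial (Fin n) R
  let fT := Algebra.TensorProduct.map (.id S S) f
  have hker : RingHom.ker fT =
      (RingHom.ker f).map (Algebra.TensorProduct.includeRight : P →ₐ[R] S ⊗[R] P) :=
    Algebra.TensorProduct.lTensor_ker f hf
  have hfg : (RingHom.ker fT).FG :=
    Algebra.FinitePresentation.ker_fG_of_surjective fT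
      (LinearMap.lTensor_surjective S (g := f.toLinearMap) hf)
  obtain ⟨T, hT, hTspan⟩ : ∃ T : Finset P, (T : Set P) ⊆ (RingHom.ker f : Set P) ∧
      RingHom.ker fT ≤ Ideal.span ((Algebra.TensorProduct.includeRight : P →ₐ[R] S ⊗[R] P) '' (T : Set P)) := by
    obtain ⟨G, hG⟩ := hfg
    have hsub : (G : Set (S ⊗[R] P)) ⊆
        Ideal.span ((Algebra.TensorProduct.includeRight : P →ₐ[R] S ⊗[R] P) '' (RingHom.ker f : Set P)) :=
      fun z hz => (hker.le (hG ▸ Submodule.subset_span hz) : _)
    obtain ⟨T', hT', hT''⟩ := Submodule.subset_span_finite_of_subset_span hsub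
    obtain ⟨T, hT, rfl⟩ := Finset.subset_set_image_iff.mp hT'
    refine ⟨T, hT, ?_⟩
    rw [← hG]
    refine Submodule.span_le.mpr ?_
    simpa using hT''
  refine ⟨T, le_antisymm (Submodule.span_le.mpr hT) fun x hx => ?_⟩
  let π := Ideal.Quotient.mkₐ R (Ideal.span (T : Set P))
  have hz : (1 : S) ⊗ₜ[R] x ∈ RingHom.ker fT := by
    simp [fT, show f x = 0 from hx]
  have h0 : Ideal.span ((Algebra.TensorProduct.includeRight : P →ₐ[R] S ⊗[R] P) '' (T : Set P)) ≤
      RingHom.ker (Algebra.TensorProduct.map (.id S S) π) := by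
    rw [Ideal.span_le]
    rintro _ ⟨y, hy, rfl⟩
    have hy0 : π y = 0 := Ideal.Quotient.eq_zero_iff_mem.mpr (Ideal.subset_span hy)
    simp [RingHom.mem_ker, hy0]
  have h1 : (1 : S) ⊗ₜ[R] π x = 0 := by simpa using h0 (hTspan hz)
  exact Ideal.Quotient.eq_zero_iff_mem.mp
    (hS (P ⧸ Ideal.span (T : Set P)) (h1.trans (TensorProduct.tmul_zero _ _).symm))

omit hS in
/-- A section of the restriction `C(S) → C(R)` of character modules. -/
theorem exists_section (h : ∀ (P : Type u) [AddCommGroup P] [Module R P],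
      Function.Injective (LinearMap.lTensor P (Algebra.linearMap R S))) :
    ∃ σ : CharacterModule R →ₗ[R] CharacterModule S,
      ∀ χ r, σ χ (algebraMap R S r) = χ r := by
  obtain ⟨E, hE⟩ := CharacterModule.dual_surjective_of_injective _
    (h (CharacterModule R)) (CharacterModule.uncurry (LinearMap.id : CharacterModule R →ₗ[R] CharacterModule R))
  exact ⟨CharacterModule.curry E, fun χ r => DFunLike.congr_fun hE (χ ⊗ₜ[R] r)⟩

omit hS in
theorem flat_of_flat_tensor (h : ∀ (P : Type u) [AddCommGroup P] [Module R P],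
      Function.Injective (LinearMap.lTensor P (Algebra.linearMap R S)))
    (M : Type u) [AddCommGroup M] [Module R M] [Module.Flat S (S ⊗[R] M)] : Module.Flat R M := by
  obtain ⟨σ, hσ⟩ := exists_section h
  rw [Module.Flat.iff_rTensor_preserves_injective_linearMap]
  intro N N' _ _ _ _ f hf
  rw [injective_iff_map_eq_zero]
  intro z hz
  refine CharacterModule.eq_zero_of_character_apply fun φ => ?_
  -- the natural section `CharacterModule P → CharacterModule (S ⊗ P)`
  let s : ∀ (P : Type u) [AddCommGroup P] [Module R P],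
      CharacterModule P →ₗ[R] CharacterModule (S ⊗[R] P) := fun P _ _ =>
    (dual (TensorProduct.comm R S P).toLinearMap).comp
      (CharacterModule.uncurry.comp ((LinearMap.compRight R (M := P) σ).comp
        (CharacterModule.curry.comp (dual (TensorProduct.rid R P).toLinearMap))))
  have hs1 : ∀ (P : Type u) [AddCommGroup P] [Module R P] (χ : CharacterModule P) (x : P),
      s P χ ((1 : S) ⊗ₜ[R] x) = χ x := by
    intro P _ _ χ x
    refine (?_ : _ = σ (CharacterModule.curry (dual (TensorProduct.rid R P).toLinearMap χ) x) 1).trans ?_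
    · rfl
    · rw [show (1 : S) = algebraMap R S 1 from (map_one _).symm, hσ]
      change χ (TensorProduct.rid R P (x ⊗ₜ[R] (1 : R))) = χ x
      simp
  have hsnat : ∀ (χ : CharacterModule N') (y : S ⊗[R] N),
      s N (dual f χ) y = s N' χ (f.lTensor S y) := by
    intro χ y
    induction y with
    | zero => simp
    | add _ _ a b => simp only [map_add, a, b]
    | tmul t x =>
      change σ (CharacterModule.curry (dual (TensorProduct.rid R N).toLinearMap (dual f χ)) x) t =
        σ (CharacterModule.curry (dual (TensorProduct.rid R N').toLinearMap χ) (f x)) t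
      congr 2
      ext r
      change χ (f (TensorProduct.rid R N (x ⊗ₜ[R] r))) = χ (TensorProduct.rid R N' (f x ⊗ₜ[R] r))
      simp
  have : IsScalarTower R S (CharacterModule (S ⊗[R] N)) :=
    .of_algebraMap_smul fun r c => by
      ext y
      simp only [CharacterModule.smul_apply, algebraMap_smul]
  let fS : S ⊗[R] N →ₗ[S] S ⊗[R] N' := AlgebraTensorModule.lTensor S S f
  let χ : M →ₗ[R] CharacterModule N :=
    CharacterModule.curry (dual (TensorProduct.comm R M N).toLinearMap φ)
  let G : S ⊗[R] M →ₗ[S] CharacterModule (S ⊗[R] N) := LinearMap.liftBaseChange S ((s N).comp χ)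
  let Ψ : CharacterModule ((S ⊗[R] M) ⊗[S] (S ⊗[R] N)) := CharacterModule.uncurry G
  let ι : ∀ (P : Type u) [AddCommGroup P] [Module R P],
      (P ⊗[R] M) →ₗ[R] (S ⊗[R] M) ⊗[S] (S ⊗[R] P) := fun P _ _ =>
    TensorProduct.lift ((((TensorProduct.mk S (S ⊗[R] M) (S ⊗[R] P)).restrictScalars₁₂ R R).compl₁₂
      (TensorProduct.mk R S M 1) (TensorProduct.mk R S P 1)).flip)
  have hι : ∀ (P : Type u) [AddCommGroup P] [Module R P] (x : P) (m : M),
      ι P (x ⊗ₜ[R] m) = ((1 : S) ⊗ₜ[R] m) ⊗ₜ[S] ((1 : S) ⊗ₜ[R] x) := fun P _ _ x m => rfl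
  have hZ : fS.lTensor (S ⊗[R] M) (ι N z) = 0 := by
    have e : ∀ w, fS.lTensor (S ⊗[R] M) (ι N w) = ι N' (f.rTensor M w) := by
      intro w
      induction w with
      | zero => simp
      | add _ _ a b => simp only [map_add, a, b]
      | tmul x m => simp [hι, fS]
    rw [e, hz, map_zero]
  obtain ⟨W, hW⟩ := (Module.Flat.lTensor_exact (R := S) (S ⊗[R] M) (N := ↥(LinearMap.ker fS))
    (LinearMap.exact_subtype_ker_map fS) (ι N z)).mp hZ
  have hΨ : ∀ w, Ψ (ι N w) = φ w := by
    intro w
    induction w with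
    | zero => simp
    | add _ _ a b => simp only [map_add, a, b]
    | tmul x m =>
      rw [hι]
      change G ((1 : S) ⊗ₜ[R] m) ((1 : S) ⊗ₜ[R] x) = _
      simp only [G, LinearMap.liftBaseChange_tmul, one_smul, LinearMap.comp_apply, hs1]
      rfl
  rw [← hΨ, ← hW]
  clear hW
  induction W with
  | zero => simp
  | add _ _ a b => simp only [map_add, a, b, add_zero]
  | tmul y l =>
    change G y (l : S ⊗[R] N) = 0
    induction y with
    | zero => rw [map_zero]; rfl
    | add _ _ a b =>
      rw [map_add]
      change G _ _ + G _ _ = 0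
      rw [a, b, add_zero]
    | tmul t m =>
      obtain ⟨c, hc⟩ := CharacterModule.dual_surjective_of_injective f hf (χ m)
      simp only [G, LinearMap.liftBaseChange_tmul, LinearMap.comp_apply, ← hc,
        CharacterModule.smul_apply, hsnat]
      have : fS (t • (l : S ⊗[R] N)) = 0 := by rw [map_smul, l.2, smul_zero]
      change s N' c (fS (t • (l : S ⊗[R] N))) = 0
      rw [this, map_zero]

theorem formallyUnramified_of_tensor (A : Type u) [CommRing A] [Algebra R A]
    [Algebra.FormallyUnramified S (S ⊗[R] A)] : Algebra.FormallyUnramified R A := by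
  constructor
  let _ : Algebra A (S ⊗[R] A) := Algebra.TensorProduct.rightAlgebra
  have : Subsingleton (S ⊗[R] Ω[A⁄R]) :=
    (KaehlerDifferential.tensorKaehlerEquivBase R S A (S ⊗[R] A)).subsingleton
  exact subsingleton_of_subsingleton_tensor hS _

end Groth.Pi1UnivInj
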